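import Mathlib
import Groth.Prelude.Def_W4c1zetahwZeta
import Groth.Prelude.Def_SgaExt
import Groth.Agent.WeilCohLib.PtCount
import Groth.Agent.ZetaPts.Scheme

/-!
Points over finite extensions and closed points by degree, for schemes of finite type over a finite
field.
-/

set_option autoImplicit false
set_option linter.style.haveILetI false
set_option linter.unusedSectionVars false

universe u

noncomputable section

open AlgebraicGeometry CategoryTheory Groth.Agent.WeilCohLib

namespace Groth.Agent.ZetaElem

variable {k : Type u} [Field k] [Finite k]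

/-- A finite field has an extension of every degree. -/
theorem exists_ext (m : ℕ) (hm : m ≠ 0) :
    ∃ (k' : Type u) (_ : Field k') (_ : Algebra k k'), Finite k' ∧ Module.finrank k k' = m := by
  classical
  obtain ⟨p, hc⟩ := CharP.exists k
  haveI := Fintype.ofFinite k
  obtain ⟨e, hp, he⟩ := FiniteField.card k p
  haveI := Fact.mk hp
  let K := AlgebraicClosure k
  haveI : CharP K p := charP_of_injective_algebraMap (algebraMap k K).injective p
  haveI : ExpChar K p := .prime hp
  let Q := p ^ ((e : ℕ) * m)
  have hQ : Q = Fintype.card k ^ m := by rw [he, ← pow_mul]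
  let L : IntermediateField k K :=
    { carrier := {a | a ^ Q = a}
      mul_mem' := fun {a b} ha hb => by
        show (a * b) ^ Q = a * b
        rw [mul_pow, ha, hb]
      one_mem' := one_pow _
      add_mem' := fun {a b} ha hb => by
        show (a + b) ^ Q = a + b
        rw [add_pow_char_pow, ha, hb]
      zero_mem' := zero_pow (pow_ne_zero _ hp.ne_zero)
      algebraMap_mem' := fun r => by
        show algebraMap k K r ^ Q = algebraMap k K r
        rw [← map_pow, hQ, FiniteField.pow_card_pow]
      inv_mem' := fun a ha => by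
        show a⁻¹ ^ Q = a⁻¹
        rw [inv_pow, ha] }
  have hQ1 : 1 < Q := one_lt_pow₀ hp.one_lt (Nat.mul_ne_zero e.pos.ne' hm)
  have hne : (Polynomial.X ^ Q - Polynomial.X : Polynomial K) ≠ 0 := FiniteField.X_pow_card_sub_X_ne_zero K hQ1
  have hcarrier : (L : Set K) = (Polynomial.X ^ Q - Polynomial.X : Polynomial K).rootSet K := by
    ext a
    rw [Polynomial.mem_rootSet_of_ne hne]
    simp [L, sub_eq_zero]
  haveI hfin : Finite L := by
    have : (L : Set K).Finite := hcarrier ▸ Polynomial.rootSet_finite _ _
    exact this.to_subtype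
  haveI := Fintype.ofFinite L
  refine ⟨L, inferInstance, inferInstance, hfin, ?_⟩
  have hcard : Nat.card L = Q := by
    have h1 : Nat.card ((Polynomial.X ^ Q - Polynomial.X : Polynomial K).rootSet K) = Q := by
      rw [Nat.card_eq_fintype_card, Polynomial.card_rootSet_eq_natDegree
        (galois_poly_separable p Q (dvd_pow_self p (Nat.mul_ne_zero e.pos.ne' hm))) (IsAlgClosed.splits _),
        FiniteField.X_pow_card_sub_X_natDegree_eq K hQ1]
    rw [← h1]
    exact Nat.card_congr (Equiv.setCongr hcarrier)
  haveI : Module.Finite k L := Module.Finite.of_finite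
  have h2 := Module.card_eq_pow_finrank (K := k) (V := L)
  rw [← Nat.card_eq_fintype_card, hcard, hQ] at h2
  exact (Nat.pow_right_injective (Fintype.one_lt_card (α := k)) h2).symm

variable {X : Scheme.{u}} (f : X ⟶ Spec (CommRingCat.of k)) [LocallyOfFiniteType f]

instance locallyOfFiniteType_toInt : LocallyOfFiniteType (specULiftZIsTerminal.from (Spec (CommRingCat.of k))) := by
  obtain ⟨φ, hφ⟩ := Spec.map_surjective (specULiftZIsTerminal.from (Spec (CommRingCat.of k)))
  rw [← hφ, HasRingHomProperty.Spec_iff (P := @LocallyOfFiniteType)]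
  letI := φ.hom.toAlgebra
  haveI : Module.Finite (ULift.{u} ℤ) k := Module.Finite.of_finite
  exact RingHom.finiteType_algebraMap.2 inferInstance

theorem finite_hom [QuasiCompact f] (F : Type u) [Field F] [Finite F] :
    Finite (Spec (CommRingCat.of F) ⟶ X) := by
  haveI : CompactSpace X := QuasiCompact.compactSpace_of_compactSpace f
  haveI : QuasiCompact (f ≫ specULiftZIsTerminal.from (Spec (CommRingCat.of k))) := inferInstance
  let g := f ≫ specULiftZIsTerminal.from (Spec (CommRingCat.of k))
  let 𝒰 := X.affineCover.finiteSubcover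
  exact (ZetaPts.finite_and_homCount_le 𝒰 F (fun i => Nat.card (Γ(𝒰.X i, ⊤) →+* F)) fun i => by
    haveI := ZetaPts.finiteType_cover g 𝒰 i
    obtain ⟨s, hs⟩ := Algebra.FiniteType.iff_quotient_mvPolynomial''.1 ‹Algebra.FiniteType ℤ Γ(𝒰.X i, ⊤)›
    obtain ⟨π, hπ⟩ := hs
    refine ⟨Finite.of_injective (fun φ : Γ(𝒰.X i, ⊤) →+* F => fun j => φ (π (MvPolynomial.X j)))
      fun φ ψ h => ?_, le_rfl⟩
    refine RingHom.ext fun a => ?_
    obtain ⟨b, rfl⟩ := hπ a
    exact DFunLike.congr_fun (MvPolynomial.ringHom_ext (f := φ.comp π.toRingHom) (g := ψ.comp π.toRingHom)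
      (fun r => by simp) (fun j => congrFun h j)) b).1

/-- Points over a finite extension, counted through closed points. -/
theorem pointCount_eq_nPts [QuasiCompact f] (k' : Type u) [Field k'] [Algebra k k'] [Finite k'] :
    SgaExt.pointCount f k' = Zeta.nPts f (Module.finrank k k') := by
  classical
  haveI : Module.Finite k k' := Module.Finite.of_finite
  let K := AlgebraicClosure k'
  haveI : IsAlgClosed K := inferInstance
  set m := Module.finrank k k' with hm
  have hm0 : m ≠ 0 := Module.finrank_pos.ne'
  obtain ⟨p, hc⟩ := CharP.exists k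
  haveI := Fintype.ofFinite k
  haveI := Fintype.ofFinite k'
  obtain ⟨e, hp, he⟩ := FiniteField.card k p
  haveI := Fact.mk hp
  haveI : CharP K p := charP_of_injective_algebraMap (algebraMap k K).injective p
  haveI : ExpChar K p := .prime hp
  let Φ : CommRingCat.of K ⟶ CommRingCat.of K := CommRingCat.ofHom (iterateFrobenius K p ((e : ℕ) * m))
  have hQ : Nat.card k ^ m = Fintype.card k' := by rw [Nat.card_eq_fintype_card, Module.card_eq_pow_finrank (K := k) (V := k')]
  have hΦ : ∀ a : K, Φ a = a ^ Nat.card k ^ m := fun a => by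
    rw [Nat.card_eq_fintype_card, he, ← pow_mul]; exact iterateFrobenius_def ..
  let ι : CommRingCat.of k' ⟶ CommRingCat.of K := CommRingCat.ofHom (algebraMap k' K)
  have hfix : ∀ a : K, a ^ Nat.card k ^ m = a → ∃ b : k', algebraMap k' K b = a := by
    intro a ha
    rw [hQ] at ha
    have hne : (Polynomial.X ^ Fintype.card k' - Polynomial.X : Polynomial k') ≠ 0 :=
      FiniteField.X_pow_card_sub_X_ne_zero k' Fintype.one_lt_card
    have hroots := FiniteField.roots_X_pow_card_sub_X k'
    have hsplit : (Polynomial.X ^ Fintype.card k' - Polynomial.X : Polynomial k').Splits := by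
      rw [Polynomial.splits_iff_card_roots, hroots, FiniteField.X_pow_card_sub_X_natDegree_eq k' Fintype.one_lt_card]
      rfl
    have hmem : a ∈ ((Polynomial.X ^ Fintype.card k' - Polynomial.X : Polynomial k').map (algebraMap k' K)).roots := by
      rw [Polynomial.mem_roots (Polynomial.map_ne_zero hne)]
      simp [sub_eq_zero, ha]
    rw [hsplit.roots_map, Multiset.mem_map] at hmem
    obtain ⟨b, -, hb⟩ := hmem
    exact ⟨b, hb⟩
  let T : { g : Spec (CommRingCat.of k') ⟶ X // g ≫ f = Spec.map (CommRingCat.ofHom (algebraMap k k')) } →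
      FixPts k K f Φ := fun g => ⟨Spec.map ι ≫ g.1, by
    rw [Category.assoc, g.2, ← Spec.map_comp]; rfl, by
    rw [← Spec.map_comp_assoc]
    congr 2
    ext b
    show Φ (algebraMap k' K b) = algebraMap k' K b
    rw [hΦ, hQ, ← map_pow, FiniteField.pow_card]⟩
  have hT : Function.Bijective T := by
    constructor
    · intro g g' h
      exact Subtype.ext (WeilCohLib.spec_field_cancel (algebraMap k' K) _ _ (congrArg Subtype.val h))
    · rintro ⟨t, ht1, ht2⟩
      obtain ⟨⟨x, σ⟩, rfl⟩ := (Scheme.SpecToEquivOfField K X).symm.surjective t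
      obtain ⟨h1, h2⟩ := (WeilCohLib.fixPts_iff k K f Φ x σ).1 ⟨ht1, ht2⟩
      have hex : ∀ a, ∃ b : k', algebraMap k' K b = σ a := fun a =>
        hfix _ (by rw [← hΦ]; exact congrArg (fun χ => χ a) h2)
      choose s hs using hex
      let σ' : X.residueField x →+* k' :=
        { toFun := s
          map_one' := (algebraMap k' K).injective (by rw [hs, map_one, map_one])
          map_mul' := fun a b => (algebraMap k' K).injective (by rw [hs, map_mul, map_mul, hs, hs])
          map_zero' := (algebraMap k' K).injective (by rw [hs, map_zero, map_zero])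
          map_add' := fun a b => (algebraMap k' K).injective (by rw [hs, map_add, map_add, hs, hs]) }
      have hσ : CommRingCat.ofHom σ' ≫ ι = σ := by ext a; exact hs a
      refine ⟨⟨Spec.map (CommRingCat.ofHom σ') ≫ X.fromSpecResidueField x, ?_⟩, Subtype.ext ?_⟩
      · rw [Category.assoc, ← WeilCohLib.map_resBase k f x, ← Spec.map_comp]
        congr 1
        ext r
        apply (algebraMap k' K).injective
        refine (congrArg (fun χ => χ (WeilCohLib.resBase k f x r)) hσ).trans ?_
        refine (congrArg (fun χ => χ r) h1).trans ?_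
        exact IsScalarTower.algebraMap_apply k k' K r
      · show Spec.map ι ≫ Spec.map (CommRingCat.ofHom σ') ≫ X.fromSpecResidueField x = _
        rw [← Spec.map_comp_assoc, hσ]
        rfl
  haveI := finite_hom f k'
  haveI : Finite (FixPts k K f Φ) := Finite.of_surjective T hT.2
  rw [WeilCohLib.nPts_eq_card k K f Φ m hm0 hΦ]
  exact Nat.card_congr (Equiv.ofBijective T hT)

/-- Finitely many closed points of each degree. -/
theorem finite_degree [QuasiCompact f] (e : ℕ) (he : e ≠ 0) :
    Finite {x : X // IsClosed ({x} : Set X) ∧ EGA4loc.residueDegree f x = e} := by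
  classical
  obtain ⟨k', _, _, hk', hfin⟩ := exists_ext (k := k) e he
  have h : ∀ x : {x : X // IsClosed ({x} : Set X) ∧ EGA4loc.residueDegree f x = e},
      Nonempty (X.residueField x.1 ⟶ CommRingCat.of k') := by
    rintro ⟨x, -, hd⟩
    letI := (WeilCohLib.resBase k f x).hom.toAlgebra
    rw [WeilCohLib.residueDegree_eq_finrank] at hd
    haveI : Module.Finite k (X.residueField x) :=
      Module.finite_of_finrank_pos (Nat.pos_of_ne_zero (ne_of_eq_of_ne hd he))
    haveI : Finite (X.residueField x) := Module.finite_of_finite k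
    haveI := Fintype.ofFinite (X.residueField x)
    haveI := Fintype.ofFinite k'
    haveI : Module.Finite k k' := Module.Finite.of_finite
    haveI := Fintype.ofFinite k
    exact ⟨CommRingCat.ofHom (FiniteField.ringEquivOfCardEq (K := X.residueField x) (K' := k') (by
      rw [Module.card_eq_pow_finrank (K := k), Module.card_eq_pow_finrank (K := k) (V := k'), hd, hfin])).toRingHom⟩
  haveI := finite_hom f k'
  let T : {x : X // IsClosed ({x} : Set X) ∧ EGA4loc.residueDegree f x = e} → (Spec (CommRingCat.of k') ⟶ X) :=
    fun x => (Scheme.SpecToEquivOfField k' X).symm ⟨x.1, (h x).some⟩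
  exact Finite.of_injective T fun x y hxy =>
    Subtype.ext (congrArg Sigma.fst ((Scheme.SpecToEquivOfField k' X).symm.injective hxy))

end Groth.Agent.ZetaElem
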