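import Mathlib
import Groth.Prelude.Def_W4c1zetahwZeta
import Groth.Agent.WeilCohLib.ZetaExp
import Groth.Agent.ZetaElem.Points

/-!
Euler products: algebra of the zeta series.
-/

set_option autoImplicit false
set_option linter.style.haveILetI false
set_option linter.unusedSectionVars false

universe u v

noncomputable section

open AlgebraicGeometry CategoryTheory Groth.Agent.WeilCohLib

namespace Groth.Agent.ZetaElem

section Series

variable {R : Type v} [Field R] [CharZero R]

/-- `-log (1 - c X^r)`. -/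
def ellS (c : R) (r : ℕ) : PowerSeries R :=
  PowerSeries.mk fun m => if r ∣ m then c ^ (m / r) * (r : R) / (m : R) else 0

theorem constantCoeff_ellS (c : R) (r : ℕ) : PowerSeries.constantCoeff (ellS c r) = 0 := by
  rw [← PowerSeries.coeff_zero_eq_constantCoeff_apply, ellS, PowerSeries.coeff_mk]; simp

theorem one_sub_eq_expS (c : R) {r : ℕ} (hr : 0 < r) :
    (1 : PowerSeries R) - PowerSeries.C c * PowerSeries.X ^ r = expS (-ellS c r) := by
  have h0 : PowerSeries.constantCoeff (-ellS c r) = 0 := by rw [map_neg, constantCoeff_ellS, neg_zero]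
  set g : PowerSeries R := 1 - PowerSeries.C c * PowerSeries.X ^ r with hg
  have hd : PowerSeries.derivative R g = g * PowerSeries.derivative R (-ellS c r) := by
    refine PowerSeries.ext fun j => ?_
    rw [hg, PowerSeries.coeff_derivative, sub_mul, one_mul, map_sub, map_sub, mul_assoc,
      PowerSeries.coeff_C_mul, PowerSeries.coeff_C_mul, PowerSeries.coeff_X_pow_mul', PowerSeries.coeff_X_pow,
      PowerSeries.coeff_one, PowerSeries.coeff_derivative]
    simp only [Nat.succ_ne_zero, if_false, map_neg, ellS, PowerSeries.coeff_mk, PowerSeries.coeff_derivative]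
    have hcast : ∀ i : ℕ, ((i : R) + 1) ≠ 0 := fun i => Nat.cast_add_one_ne_zero i
    by_cases hle : r ≤ j
    · rw [if_pos hle, if_neg (by omega : j + 1 ≠ r)]
      by_cases hdvd : r ∣ j + 1
      · have hdvd' : r ∣ j - r + 1 := by
          rw [show j - r + 1 = j + 1 - r by omega]; exact Nat.dvd_sub hdvd dvd_rfl
        rw [if_pos hdvd, if_pos hdvd']
        obtain ⟨a, ha⟩ := hdvd
        have ha' : j - r + 1 = r * (a - 1) := by rw [Nat.mul_sub_one]; omega
        have ha1 : 1 ≤ a := by rcases a with _ | a <;> omega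
        rw [ha', ha, Nat.mul_div_cancel_left _ hr, Nat.mul_div_cancel_left _ hr]
        obtain ⟨b, rfl⟩ : ∃ b, a = b + 1 := ⟨a - 1, by omega⟩
        rw [Nat.add_sub_cancel] at ha' ⊢
        have hb : (b : R) ≠ 0 := by
          rcases b with _ | b
          · simp at ha'
          · exact Nat.cast_ne_zero.2 (Nat.succ_ne_zero b)
        have hr' : (r : R) ≠ 0 := Nat.cast_ne_zero.2 hr.ne'
        have e1 : ((j - r : ℕ) : R) + 1 = (r : R) * b := by exact_mod_cast ha'
        have e2 : (j : R) + 1 = (r : R) * ((b : R) + 1) := by exact_mod_cast ha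
        rw [e1, e2]
        push_cast
        have hb1 := hcast b
        field_simp
        ring
      · have hdvd' : ¬ r ∣ j - r + 1 := fun h => hdvd (by
          rw [show j + 1 = j - r + 1 + r by omega]; exact Nat.dvd_add h dvd_rfl)
        rw [if_neg hdvd, if_neg hdvd']
        simp
    · rw [if_neg hle]
      by_cases hj : j + 1 = r
      · subst hj
        have := hcast j
        rw [if_pos rfl, if_pos dvd_rfl, Nat.div_self hr]
        push_cast
        field_simp
        ring
      · rw [if_neg hj, if_neg (fun h => by have := Nat.le_of_dvd (Nat.succ_pos j) h; omega)]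
        simp
  have hg0 : PowerSeries.constantCoeff g = 1 := by
    rw [hg, map_sub, map_one, map_mul, map_pow, PowerSeries.constantCoeff_X, zero_pow hr.ne', mul_zero, sub_zero]
  have hne : PowerSeries.constantCoeff (expS (-ellS c r)) ≠ 0 := by rw [constantCoeff_expS h0]; exact one_ne_zero
  have hQ : g * (expS (-ellS c r))⁻¹ = 1 := by
    refine PowerSeries.derivative.ext ?_ ?_
    · rw [Derivation.leibniz, PowerSeries.derivative_inv', derivative_expS h0, hd, Derivation.map_one_eq_zero,
        smul_eq_mul, smul_eq_mul]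
      have h : expS (-ellS c r) * (expS (-ellS c r))⁻¹ = 1 := PowerSeries.mul_inv_cancel _ hne
      linear_combination (-(g * PowerSeries.derivative R (-ellS c r) * (expS (-ellS c r))⁻¹)) * h
    · rw [map_mul, PowerSeries.constantCoeff_inv, constantCoeff_expS h0, hg0, map_one, inv_one, mul_one]
  exact ((PowerSeries.eq_mul_inv_iff_mul_eq hne).1 hQ.symm).symm.trans (one_mul _)

theorem expS_nsmul {a : PowerSeries R} (ha : PowerSeries.constantCoeff a = 0) (n : ℕ) :
    expS (n • a) = expS a ^ n := by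
  induction n with
  | zero => rw [zero_smul, expS_zero, pow_zero]
  | succ n ih => rw [succ_nsmul, expS_add (by rw [map_nsmul, ha, nsmul_zero]) ha, ih, pow_succ]

theorem coeff_expS_of_dvd {a : PowerSeries R} {n : ℕ} (h : (PowerSeries.X : PowerSeries R) ^ (n + 1) ∣ a) {m : ℕ}
    (hm : m ≤ n) : PowerSeries.coeff m (expS a) = if m = 0 then 1 else 0 := by
  have ha : PowerSeries.constantCoeff a = 0 := by
    rw [← PowerSeries.coeff_zero_eq_constantCoeff_apply]
    exact PowerSeries.X_pow_dvd_iff.1 h 0 (Nat.succ_pos n)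
  rw [expS, PowerSeries.coeff_subst' (PowerSeries.HasSubst.of_constantCoeff_zero' ha), finsum_eq_single _ 0]
  · simp [PowerSeries.coeff_one]
  · intro d hd
    rw [PowerSeries.X_pow_dvd_iff.1 (h.trans (dvd_pow_self a hd)) m (by omega), smul_zero]

theorem constantCoeff_nsmul_ellS (n : ℕ) (c : R) (r : ℕ) :
    PowerSeries.constantCoeff (n • -ellS c r) = 0 := by
  rw [map_nsmul, map_neg, constantCoeff_ellS, neg_zero, nsmul_zero]

theorem one_sub_pow_eq_expS (c : R) {r : ℕ} (hr : 0 < r) (n : ℕ) :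
    ((1 : PowerSeries R) - PowerSeries.C c * PowerSeries.X ^ r) ^ n = expS (n • -ellS c r) := by
  rw [one_sub_eq_expS c hr, expS_nsmul (by rw [map_neg, constantCoeff_ellS, neg_zero])]

end Series

variable {k : Type u} [Field k] {X : Scheme.{u}} (f : X ⟶ Spec (CommRingCat.of k))

theorem constantCoeff_logZeta : PowerSeries.constantCoeff (Zeta.logZeta f) = 0 := by
  rw [← PowerSeries.coeff_zero_eq_constantCoeff_apply, Zeta.logZeta, PowerSeries.coeff_mk]; simp

theorem zetaFun_eq : Zeta.zetaFun f = expS (Zeta.logZeta f) := rfl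

theorem euler_trunc (n : ℕ) :
    PowerSeries.trunc (n + 1)
      (Zeta.zetaFun f * ∏ r ∈ Finset.Icc 1 n, (1 - PowerSeries.X ^ r) ^ Zeta.degCount f r) = 1 := by
  classical
  have h1 : ∀ r ∈ Finset.Icc 1 n, ((1 : PowerSeries ℚ) - PowerSeries.X ^ r) ^ Zeta.degCount f r =
      expS (Zeta.degCount f r • -ellS (1 : ℚ) r) := fun r hr => by
    rw [← one_sub_pow_eq_expS 1 (by have := (Finset.mem_Icc.1 hr).1; omega), map_one, one_mul]
  rw [zetaFun_eq, Finset.prod_congr rfl h1, ← expS_sum _ _ (fun r _ => constantCoeff_nsmul_ellS _ _ _),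
    ← expS_add (constantCoeff_logZeta f) (by rw [map_sum]; exact Finset.sum_eq_zero fun r _ => constantCoeff_nsmul_ellS _ _ _)]
  have hdvd : (PowerSeries.X : PowerSeries ℚ) ^ (n + 1) ∣
      Zeta.logZeta f + ∑ r ∈ Finset.Icc 1 n, Zeta.degCount f r • -ellS (1 : ℚ) r := by
    refine PowerSeries.X_pow_dvd_iff.2 fun m hm => ?_
    rw [map_add, map_sum, Zeta.logZeta, PowerSeries.coeff_mk, Zeta.nPts]
    rw [Finset.sum_congr rfl fun x _ => map_nsmul (PowerSeries.coeff m) (Zeta.degCount f x) (-ellS (1 : ℚ) x)]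
    simp only [map_neg, ellS, PowerSeries.coeff_mk, one_pow, one_mul, nsmul_eq_mul, mul_neg, mul_ite,
      mul_zero, Finset.sum_neg_distrib]
    rcases Nat.eq_zero_or_pos m with rfl | hm0
    · simp
    rw [← Finset.sum_filter, show (Finset.Icc 1 n).filter (fun r => r ∣ m) = m.divisors by
      ext r
      simp only [Finset.mem_filter, Finset.mem_Icc, Nat.mem_divisors]
      refine ⟨fun h => ⟨h.2, by omega⟩, fun h => ⟨⟨Nat.pos_of_dvd_of_pos h.1 hm0, ?_⟩, h.1⟩⟩
      have := Nat.le_of_dvd hm0 h.1; omega]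
    rw [Nat.cast_sum, Finset.sum_div, ← sub_eq_add_neg, ← Finset.sum_sub_distrib]
    refine Finset.sum_eq_zero fun r _ => ?_
    push_cast
    ring
  ext m
  rw [PowerSeries.coeff_trunc, Polynomial.coeff_one]
  by_cases hm : m < n + 1
  · rw [if_pos hm, coeff_expS_of_dvd hdvd (by omega)]
  · rw [if_neg hm, if_neg (by omega)]

theorem integral_coeff (n : ℕ) : ∃ z : ℤ, PowerSeries.coeff n (Zeta.zetaFun f) = (z : ℚ) := by
  let P : PowerSeries ℤ := ∏ r ∈ Finset.Icc 1 n, (1 - PowerSeries.X ^ r) ^ Zeta.degCount f r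
  have hP0 : PowerSeries.constantCoeff P = 1 := by
    simp only [P, map_prod, map_pow, map_sub, map_one, PowerSeries.constantCoeff_X]
    refine Finset.prod_eq_one fun r hr => ?_
    rw [zero_pow (by have := (Finset.mem_Icc.1 hr).1; omega), sub_zero, one_pow]
  let U := PowerSeries.invOfUnit P 1
  have hPU : P * U = 1 := PowerSeries.mul_invOfUnit P 1 hP0
  have h := euler_trunc f n
  have hPmap : PowerSeries.map (Int.castRingHom ℚ) P =
      ∏ r ∈ Finset.Icc 1 n, (1 - PowerSeries.X ^ r) ^ Zeta.degCount f r := by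
    simp [P]
  refine ⟨PowerSeries.coeff n U, ?_⟩
  have hkey : (PowerSeries.X : PowerSeries ℚ) ^ (n + 1) ∣
      Zeta.zetaFun f * PowerSeries.map (Int.castRingHom ℚ) P - 1 := by
    refine PowerSeries.X_pow_dvd_iff.2 fun m hm => ?_
    have hc := congrArg (fun q => Polynomial.coeff q m) h
    simp only [PowerSeries.coeff_trunc, if_pos hm, Polynomial.coeff_one] at hc
    rw [map_sub, hPmap, hc, PowerSeries.coeff_one, sub_self]
  have hmul := PowerSeries.X_pow_dvd_iff.1 (hkey.mul_right (PowerSeries.map (Int.castRingHom ℚ) U)) n (Nat.lt_succ_self n)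
  rw [sub_mul, mul_assoc, ← map_mul, hPU, map_one, mul_one, one_mul, map_sub, sub_eq_zero, PowerSeries.coeff_map] at hmul
  exact hmul

theorem zetaFun_eq_prod_of_nPts {ι : Type*} (s : Finset ι) {Y : ι → Scheme.{u}} (g : ∀ i, Y i ⟶ Spec (CommRingCat.of k))
    (h : ∀ m : ℕ, 0 < m → Zeta.nPts f m = ∑ i ∈ s, Zeta.nPts (g i) m) :
    Zeta.zetaFun f = ∏ i ∈ s, Zeta.zetaFun (g i) := by
  have hlog : Zeta.logZeta f = ∑ i ∈ s, Zeta.logZeta (g i) := by
    refine PowerSeries.ext fun m => ?_
    rw [map_sum]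
    simp only [Zeta.logZeta, PowerSeries.coeff_mk]
    rcases Nat.eq_zero_or_pos m with rfl | hm
    · simp
    · rw [h m hm, Nat.cast_sum, Finset.sum_div]
  rw [zetaFun_eq, hlog, expS_sum _ _ (fun i _ => constantCoeff_logZeta _)]
  rfl

/-- Polynomial count. -/
theorem zetaFun_polynomial_count (q : ℚ) (d : ℕ) (a : ℕ → ℤ)
    (h : ∀ m : ℕ, 1 ≤ m → (Zeta.nPts f m : ℚ) = ∑ i ∈ Finset.range d, (a i : ℚ) * (q ^ i) ^ m) :
    Zeta.zetaFun f * ∏ i ∈ Finset.range d, (1 - PowerSeries.C (q ^ i) * PowerSeries.X) ^ (a i).toNat =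
      ∏ i ∈ Finset.range d, (1 - PowerSeries.C (q ^ i) * PowerSeries.X) ^ (-a i).toNat := by
  have h1 : ∀ (i : ℕ) (c : ℕ), ((1 : PowerSeries ℚ) - PowerSeries.C (q ^ i) * PowerSeries.X) ^ c =
      expS (c • -ellS (q ^ i) 1) := fun i c => by
    rw [← one_sub_pow_eq_expS (q ^ i) one_pos, pow_one]
  simp only [h1]
  rw [zetaFun_eq, ← expS_sum _ _ (fun r _ => constantCoeff_nsmul_ellS _ _ _),
    ← expS_sum _ _ (fun r _ => constantCoeff_nsmul_ellS _ _ _),
    ← expS_add (constantCoeff_logZeta f) (by rw [map_sum]; exact Finset.sum_eq_zero fun r _ => constantCoeff_nsmul_ellS _ _ _)]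
  congr 1
  refine PowerSeries.ext fun m => ?_
  rw [map_add, map_sum, map_sum, Zeta.logZeta, PowerSeries.coeff_mk]
  rcases Nat.eq_zero_or_pos m with rfl | hm
  · simp [ellS]
  rw [h m hm, Finset.sum_div, ← Finset.sum_add_distrib]
  refine Finset.sum_congr rfl fun i _ => ?_
  rw [map_nsmul (PowerSeries.coeff m), map_nsmul (PowerSeries.coeff m)]
  simp only [map_neg, ellS, PowerSeries.coeff_mk, if_pos (one_dvd m), Nat.div_one, Nat.cast_one, mul_one,
    nsmul_eq_mul]
  have hcast : (((a i).toNat : ℕ) : ℚ) - (((-a i).toNat : ℕ) : ℚ) = (a i : ℚ) := by exact_mod_cast Int.toNat_sub_toNat_neg (a i)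
  rw [← hcast]
  ring

end Groth.Agent.ZetaElem
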