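import Mathlib
import Groth.Prelude.Def_W4c1zetahwZeta
import Groth.Agent.ZetaElem.Euler
import Groth.Agent.WeilCohLib.FixedPts

/-!
Decompositions of the closed points, affine line, base change.
-/

set_option autoImplicit false
set_option linter.style.haveILetI false
set_option linter.unusedSectionVars false

universe u v

noncomputable section

open AlgebraicGeometry CategoryTheory Groth.Agent.WeilCohLib

namespace Groth.Agent.ZetaElem

variable {k : Type u} [Field k] [Finite k] {X : Scheme.{u}} (f : X ⟶ Spec (CommRingCat.of k))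
  [LocallyOfFiniteType f]

omit [Finite k] in
theorem residueDegree_immersion {Y : Scheme.{u}} (g : Y ⟶ X) [IsPreimmersion g] (y : Y) :
    EGA4loc.residueDegree (g ≫ f) y = EGA4loc.residueDegree f (g y) := by
  show (g ≫ f).residueDegree y = f.residueDegree (g y)
  rw [residueDegree_comp', residueDegree_eq_one_of_surjective g y (fun z => ?_), mul_one]
  obtain ⟨s, rfl⟩ := IsLocalRing.residue_surjective z
  obtain ⟨t, ht⟩ := g.stalkMap_surjective y s
  exact ⟨IsLocalRing.residue _ t,
    (congrArg (fun φ => φ t) (Scheme.residue_residueFieldMap g y)).trans (congrArg (Y.residue y) ht)⟩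

omit [Finite k] in
include f in
theorem isClosed_image_iff {Y : Scheme.{u}} (g : Y ⟶ X) [IsImmersion g] (y : Y) :
    IsClosed ({g y} : Set X) ↔ IsClosed ({y} : Set Y) := by
  haveI : JacobsonSpace ↥X := LocallyOfFiniteType.jacobsonSpace f
  refine ⟨fun h => ?_, fun h => ?_⟩
  · have : ({y} : Set Y) = g ⁻¹' {g y} := by
      ext z
      exact ⟨fun hz => congrArg g hz, fun hz => g.isEmbedding.injective hz⟩
    rw [this]; exact h.preimage g.continuous
  · refine isClosed_singleton_of_isLocallyClosed_singleton ?_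
    rw [← Set.image_singleton]
    exact h.isLocallyClosed.image g.isEmbedding.isInducing g.isLocallyClosed_range

theorem nPts_partition [QuasiCompact f] {ι : Type v} [Fintype ι] (Y : ι → Scheme.{u}) (g : ∀ i, Y i ⟶ X)
    [∀ i, IsImmersion (g i)] (hpart : ∀ x : X, IsClosed ({x} : Set X) → ∃! i, x ∈ Set.range (g i))
    (m : ℕ) : Zeta.nPts f m = ∑ i, Zeta.nPts (g i ≫ f) m := by
  classical
  simp only [Zeta.nPts]
  rw [Finset.sum_comm]
  refine Finset.sum_congr rfl fun e he => ?_
  rw [← Finset.mul_sum]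
  congr 1
  have he0 : e ≠ 0 := (Nat.pos_of_mem_divisors he).ne'
  haveI := finite_degree f e he0
  let A : ι → Type u := fun i => {y : Y i // IsClosed ({y} : Set (Y i)) ∧ EGA4loc.residueDegree (g i ≫ f) y = e}
  let T : (Σ i, A i) → {x : X // IsClosed ({x} : Set X) ∧ EGA4loc.residueDegree f x = e} := fun z =>
    ⟨g z.1 z.2.1, (isClosed_image_iff f (g z.1) z.2.1).2 z.2.2.1,
      (residueDegree_immersion f (g z.1) z.2.1).symm.trans z.2.2.2⟩
  have hT : Function.Bijective T := by
    constructor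
    · rintro ⟨i, y⟩ ⟨i', y'⟩ h
      have h' : g i y.1 = g i' y'.1 := congrArg Subtype.val h
      have hi : i = i' := (hpart _ (T ⟨i, y⟩).2.1).unique ⟨y.1, rfl⟩ ⟨y'.1, h'.symm⟩
      subst hi
      obtain rfl : y = y' := Subtype.ext ((g i).isEmbedding.injective h')
      rfl
    · rintro ⟨x, hx, hd⟩
      obtain ⟨i, ⟨y, rfl⟩, -⟩ := hpart x hx
      exact ⟨⟨i, y, (isClosed_image_iff f (g i) y).1 hx, (residueDegree_immersion f (g i) y).trans hd⟩, rfl⟩
  haveI : ∀ i, Finite (A i) := fun i => Finite.of_injective (fun a : A i => T ⟨i, a⟩) fun a a' h => by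
    obtain ⟨-, h'⟩ := Sigma.mk.inj (hT.1 h)
    exact eq_of_heq h'
  unfold Zeta.degCount
  rw [← Nat.card_congr (Equiv.ofBijective T hT), Nat.card_sigma]

theorem zetaFun_partition [QuasiCompact f] {ι : Type v} [Fintype ι] (Y : ι → Scheme.{u}) (g : ∀ i, Y i ⟶ X)
    [∀ i, IsImmersion (g i)] (hpart : ∀ x : X, IsClosed ({x} : Set X) → ∃! i, x ∈ Set.range (g i)) :
    Zeta.zetaFun f = ∏ i, Zeta.zetaFun (g i ≫ f) :=
  zetaFun_eq_prod_of_nPts f Finset.univ _ fun m _ => nPts_partition f Y g hpart m

/-- Points of the affine line. -/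
theorem pointCount_affineLine [QuasiCompact f] (k' : Type u) [Field k'] [Algebra k k'] [Finite k'] :
    SgaExt.pointCount ((𝔸(PUnit.{u + 1}; X) ↘ X) ≫ f) k' = Nat.card k' * SgaExt.pointCount f k' := by
  classical
  let A := 𝔸(PUnit.{u + 1}; X)
  let H := {g : Spec (CommRingCat.of k') ⟶ A // g ≫ (A ↘ X) ≫ f = Spec.map (CommRingCat.ofHom (algebraMap k k'))}
  let B := {t : Spec (CommRingCat.of k') ⟶ X // t ≫ f = Spec.map (CommRingCat.ofHom (algebraMap k k'))}
  have hfib : ∀ t : B, Nonempty ({g : Spec (CommRingCat.of k') ⟶ A // g ≫ (A ↘ X) = t.1} ≃ k') := by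
    intro t
    letI : (Spec (CommRingCat.of k')).Over X := ⟨t.1⟩
    refine ⟨((Equiv.subtypeEquivRight fun g => ?_).trans (AffineSpace.homOverEquiv (n := PUnit.{u + 1}) (S := X))).trans
      ((Equiv.funUnique _ _).trans (Scheme.ΓSpecIso (CommRingCat.of k')).commRingCatIsoToRingEquiv.toEquiv)⟩
    exact ⟨fun h => ⟨h⟩, fun h => h.1⟩
  have E1 : H ≃ Σ t : B, {g : Spec (CommRingCat.of k') ⟶ A // g ≫ (A ↘ X) = t.1} :=
    { toFun := fun g => ⟨⟨g.1 ≫ (A ↘ X), by rw [Category.assoc]; exact g.2⟩, g.1, rfl⟩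
      invFun := fun z => ⟨z.2.1, by rw [← Category.assoc, z.2.2]; exact z.1.2⟩
      left_inv := fun g => rfl
      right_inv := fun z => Sigma.subtype_ext (Subtype.ext z.2.2) rfl }
  show Nat.card H = Nat.card k' * Nat.card B
  rw [Nat.card_congr (E1.trans ((Equiv.sigmaCongrRight fun t => (hfib t).some).trans (Equiv.sigmaEquivProd B k'))),
    Nat.card_prod, mul_comm]

theorem nPts_affineLine [QuasiCompact f] (m : ℕ) (hm : m ≠ 0) :
    Zeta.nPts ((𝔸(PUnit.{u + 1}; X) ↘ X) ≫ f) m = Nat.card k ^ m * Zeta.nPts f m := by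
  obtain ⟨k', _, _, hk', hfin⟩ := exists_ext (k := k) m hm
  haveI : Module.Finite k k' := Module.Finite.of_finite
  haveI := Fintype.ofFinite k
  haveI := Fintype.ofFinite k'
  rw [← hfin, ← pointCount_eq_nPts, ← pointCount_eq_nPts, pointCount_affineLine,
    Nat.card_eq_fintype_card (α := k'), Nat.card_eq_fintype_card (α := k), Module.card_eq_pow_finrank (K := k) (V := k')]

/-- Base change to a finite extension. -/
theorem nPts_baseChange [QuasiCompact f] (k' : Type u) [Field k'] [Algebra k k'] [Finite k'] (j : ℕ) (hj : j ≠ 0) :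
    Zeta.nPts (Limits.pullback.snd f (Spec.map (CommRingCat.ofHom (algebraMap k k')))) j =
      Zeta.nPts f (Module.finrank k k' * j) := by
  obtain ⟨L, _, _, hL, hfin⟩ := exists_ext (k := k') j hj
  letI : Algebra k L := ((algebraMap k' L).comp (algebraMap k k')).toAlgebra
  haveI : IsScalarTower k k' L := .of_algebraMap_eq fun _ => rfl
  haveI : Module.Finite k k' := Module.Finite.of_finite
  haveI : Module.Finite k' L := Module.Finite.of_finite
  rw [← hfin, Module.finrank_mul_finrank, ← pointCount_eq_nPts, ← pointCount_eq_nPts]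
  refine Nat.card_congr
    { toFun := fun g => ⟨g.1 ≫ Limits.pullback.fst _ _, by
        rw [Category.assoc, Limits.pullback.condition, ← Category.assoc, g.2, ← Spec.map_comp]
        rfl⟩
      invFun := fun t => ⟨Limits.pullback.lift t.1 (Spec.map (CommRingCat.ofHom (algebraMap k' L))) (by
        rw [t.2, ← Spec.map_comp]; rfl), Limits.pullback.lift_snd _ _ _⟩
      left_inv := fun g => Subtype.ext (Limits.pullback.hom_ext (by rw [Limits.pullback.lift_fst])
        (by rw [Limits.pullback.lift_snd, g.2]))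
      right_inv := fun t => Subtype.ext (Limits.pullback.lift_fst _ _ _) }

section Series

theorem map_zetaFun {R : Type v} [Field R] [CharZero R] (φ : ℚ →+* R) :
    PowerSeries.map φ (Zeta.zetaFun f) = expS (PowerSeries.map φ (Zeta.logZeta f)) := by
  rw [Zeta.zetaFun, expS]
  refine (PowerSeries.map_subst (PowerSeries.HasSubst.of_constantCoeff_zero' (constantCoeff_logZeta f)) _).trans ?_
  obtain rfl : φ = algebraMap ℚ R := RingHom.ext_rat _ _
  rw [PowerSeries.map_exp]
  rfl

theorem subst_expS {R : Type v} [Field R] [CharZero R] {a b : PowerSeries R}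
    (ha : PowerSeries.constantCoeff a = 0) (hb : PowerSeries.constantCoeff b = 0) :
    PowerSeries.subst b (expS a) = expS (PowerSeries.subst b a) :=
  PowerSeries.subst_comp_subst_apply (PowerSeries.HasSubst.of_constantCoeff_zero' ha)
    (PowerSeries.HasSubst.of_constantCoeff_zero' hb) _

theorem rescale_expS {R : Type v} [Field R] [CharZero R] {a : PowerSeries R}
    (ha : PowerSeries.constantCoeff a = 0) (c : R) :
    PowerSeries.rescale c (expS a) = expS (PowerSeries.rescale c a) := by
  rw [PowerSeries.rescale_eq_subst, PowerSeries.rescale_eq_subst, subst_expS ha (by simp)]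

theorem zetaFun_affineLine [QuasiCompact f] :
    Zeta.zetaFun ((𝔸(PUnit.{u + 1}; X) ↘ X) ≫ f) = PowerSeries.rescale (Nat.card k : ℚ) (Zeta.zetaFun f) := by
  rw [zetaFun_eq, zetaFun_eq, rescale_expS (constantCoeff_logZeta f)]
  congr 1
  refine PowerSeries.ext fun m => ?_
  rw [PowerSeries.coeff_rescale]
  simp only [Zeta.logZeta, PowerSeries.coeff_mk]
  rcases Nat.eq_zero_or_pos m with rfl | hm
  · simp
  rw [nPts_affineLine f m hm.ne']
  push_cast
  ring

theorem zetaFun_baseChange [QuasiCompact f] (k' : Type u) [Field k'] [Algebra k k'] [Finite k'] (ξ : ℂ)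
    (hξ : IsPrimitiveRoot ξ (Module.finrank k k')) :
    PowerSeries.subst ((PowerSeries.X : PowerSeries ℂ) ^ Module.finrank k k')
        (PowerSeries.map (algebraMap ℚ ℂ) (Zeta.zetaFun
          (Limits.pullback.snd f (Spec.map (CommRingCat.ofHom (algebraMap k k')))))) =
      ∏ i ∈ Finset.range (Module.finrank k k'),
        PowerSeries.rescale (ξ ^ i) (PowerSeries.map (algebraMap ℚ ℂ) (Zeta.zetaFun f)) := by
  classical
  haveI : Module.Finite k k' := Module.Finite.of_finite
  set r := Module.finrank k k' with hr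
  have hr0 : r ≠ 0 := Module.finrank_pos.ne'
  have h0 : ∀ {Y : Scheme.{u}} {K : Type u} [Field K] (g : Y ⟶ Spec (CommRingCat.of K)),
      PowerSeries.constantCoeff (PowerSeries.map (algebraMap ℚ ℂ) (Zeta.logZeta g)) = 0 := fun g => by
    rw [← PowerSeries.coeff_zero_eq_constantCoeff_apply, PowerSeries.coeff_map,
      PowerSeries.coeff_zero_eq_constantCoeff_apply, constantCoeff_logZeta, map_zero]
  haveI : LocallyOfFiniteType (Limits.pullback.snd f (Spec.map (CommRingCat.ofHom (algebraMap k k')))) := inferInstance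
  have hX : PowerSeries.constantCoeff ((PowerSeries.X : PowerSeries ℂ) ^ r) = 0 := by
    rw [map_pow, PowerSeries.constantCoeff_X, zero_pow hr0]
  have hresc : ∀ i, PowerSeries.constantCoeff (PowerSeries.rescale (ξ ^ i) (PowerSeries.map (algebraMap ℚ ℂ) (Zeta.logZeta f))) = 0 := fun i => by
    rw [← PowerSeries.coeff_zero_eq_constantCoeff_apply, PowerSeries.coeff_rescale,
      PowerSeries.coeff_zero_eq_constantCoeff_apply, h0, mul_zero]
  rw [map_zetaFun f]
  rw [map_zetaFun (Limits.pullback.snd f (Spec.map (CommRingCat.ofHom (algebraMap k k')))), subst_expS (h0 _) hX,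
    Finset.prod_congr rfl fun i _ => rescale_expS (h0 f) (ξ ^ i), ← expS_sum _ _ (fun i _ => hresc i)]
  congr 1
  refine PowerSeries.ext fun n => ?_
  have hgeom : ∑ i ∈ Finset.range r, (ξ ^ i) ^ n = if r ∣ n then (r : ℂ) else 0 := by
    split_ifs with hn
    · obtain ⟨c, rfl⟩ := hn
      rw [Finset.sum_congr rfl (g := fun _ => (1 : ℂ)) fun i _ => by
        rw [← pow_mul, mul_comm i, mul_assoc, pow_mul, hξ.pow_eq_one, one_pow]]
      simp
    · have hne : ξ ^ n ≠ 1 := fun h => hn (hξ.dvd_of_pow_eq_one n h)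
      rw [Finset.sum_congr rfl (g := fun i => (ξ ^ n) ^ i) fun i _ => by rw [← pow_mul, mul_comm, pow_mul],
        geom_sum_eq hne, ← pow_mul, mul_comm, pow_mul, hξ.pow_eq_one, one_pow, sub_self, zero_div]
  rw [map_sum, Finset.sum_congr rfl fun i _ => PowerSeries.coeff_rescale _ _ _, ← Finset.sum_mul, hgeom,
    PowerSeries.coeff_subst' (PowerSeries.HasSubst.of_constantCoeff_zero' hX)]
  simp only [← pow_mul, PowerSeries.coeff_X_pow, PowerSeries.coeff_map, Zeta.logZeta, PowerSeries.coeff_mk,
    smul_eq_mul, mul_ite, mul_one, mul_zero]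
  by_cases hn : r ∣ n
  · obtain ⟨j, rfl⟩ := hn
    rw [finsum_eq_single _ j (fun d hd => if_neg fun h => hd (Nat.eq_of_mul_eq_mul_left (Nat.pos_of_ne_zero hr0) h).symm),
      if_pos rfl, if_pos (dvd_mul_right r j)]
    rcases Nat.eq_zero_or_pos j with rfl | hj
    · simp
    rw [nPts_baseChange f k' j hj.ne', ← hr]
    push_cast
    have hr' : (r : ℂ) ≠ 0 := Nat.cast_ne_zero.2 hr0
    have hj' : (j : ℂ) ≠ 0 := Nat.cast_ne_zero.2 hj.ne'
    field_simp
  · rw [finsum_eq_zero_of_forall_eq_zero (fun d => if_neg fun h => hn ⟨d, h⟩), if_neg hn, zero_mul]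

end Series

end Groth.Agent.ZetaElem
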