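import Mathlib
import Groth.Prelude.Def_W4c1zetahwZeta
import Groth.Agent.ZetaElem.Euler
import Groth.Agent.ProjMap.Basic
import Groth.Agent.S18577
import Groth.Agent.CompleteCurve.ProjSpace

/-!
Counting points of projective space.
-/

set_option autoImplicit false
set_option linter.style.haveILetI false
set_option linter.unusedSectionVars false

universe u

noncomputable section

open AlgebraicGeometry CategoryTheory MvPolynomial HomogeneousLocalization Groth.Agent.ProjMap

namespace Groth.Agent.ZetaElem

variable {k : Type u} [Field k] {n : ℕ} {F : Type u} [Field F] [Algebra k F]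

theorem point_eq_iff (v w : Fin (n + 1) → F) (c d : Fin (n + 1)) (hc : IsUnit (v c)) (hd : IsUnit (w d)) :
    point (R := k) v c hc = point w d hd ↔ ∃ t : F, t • w = v := by
  constructor
  · intro h
    have hw : IsUnit (w c) := by
      have h1 := point_preimage_basicOpen (R := k) v c hc one_pos (X_mem c)
      have h2 := point_preimage_basicOpen (R := k) w d hd one_pos (X_mem c)
      rw [h] at h1
      have h3 := h1.symm.trans h2
      have hm : (IsLocalRing.closedPoint F) ∈ PrimeSpectrum.basicOpen (aeval v (X c : MvPolynomial (Fin (n + 1)) k)) := by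
        rw [PrimeSpectrum.mem_basicOpen, aeval_X]
        exact fun hmem => (IsLocalRing.closedPoint F).isPrime.ne_top (Ideal.eq_top_of_isUnit_mem _ hmem hc)
      rw [h3, PrimeSpectrum.mem_basicOpen, aeval_X] at hm
      refine isUnit_iff_ne_zero.2 fun h0 => hm ?_
      rw [h0]; exact Submodule.zero_mem _
    rw [point_chart w d c hd hw, point, point, cancel_mono (chart c)] at h
    have h' := congrArg CommRingCat.Hom.hom (Spec.map_injective h)
    simp only [CommRingCat.hom_ofHom] at h'
    refine ⟨v c / w c, funext fun i => ?_⟩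
    have hi : (X i : MvPolynomial (Fin (n + 1)) k) ∈ CohB1.polyGrading n k (1 • 1) := by
      rw [one_smul]; exact X_mem i
    have e1 := evalAway_mk (v := v) (X_mem c) (by simpa using hc) 1 (X i) hi
    have e2 := evalAway_mk (v := w) (X_mem c) (by simpa using hw) 1 (X i) hi
    rw [h'] at e1
    have e1' : _ * v c = v i :=
      (congrArg (_ * ·) ((pow_one _).trans (aeval_X v c))).symm.trans (e1.trans (aeval_X v i))
    have e2' : _ * w c = w i :=
      (congrArg (_ * ·) ((pow_one _).trans (aeval_X w c))).symm.trans (e2.trans (aeval_X w i))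
    rw [Pi.smul_apply, smul_eq_mul, ← e1', ← e2']
    have hne : w c ≠ 0 := hw.ne_zero
    field_simp
  · rintro ⟨t, rfl⟩
    have hw : IsUnit (w c) := by
      rw [Pi.smul_apply, smul_eq_mul] at hc
      exact isUnit_of_mul_isUnit_right hc
    rw [point_chart w d c hd hw]
    exact point_smul w (t • w) t (fun _ => rfl) c hw hc

/-- Points of projective space. -/
theorem pointCount_projSpace [Finite F] :
    SgaExt.pointCount (CohB1.ProjSpace.toSpec n k) F = ∑ i ∈ Finset.range (n + 1), Nat.card F ^ i := by
  classical
  have hex : ∀ p : Projectivization F (Fin (n + 1) → F), ∃ c, IsUnit (p.rep c) := fun p => by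
    obtain ⟨c, hc⟩ := Function.ne_iff.1 p.rep_nonzero
    exact ⟨c, isUnit_iff_ne_zero.2 hc⟩
  choose c hc using hex
  let T : Projectivization F (Fin (n + 1) → F) →
      {g : Spec (CommRingCat.of F) ⟶ CohB1.ProjSpace n k //
        g ≫ CohB1.ProjSpace.toSpec n k = Spec.map (CommRingCat.ofHom (algebraMap k F))} :=
    fun p => ⟨point p.rep (c p) (hc p), point_toSpec _ _ _⟩
  have hT : Function.Bijective T := by
    constructor
    · intro p p' h
      rw [← p.mk_rep, ← p'.mk_rep, Projectivization.mk_eq_mk_iff']
      exact (point_eq_iff p.rep p'.rep (c p) (c p') (hc p) (hc p')).1 (congrArg Subtype.val h)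
    · rintro ⟨g, hg⟩
      obtain ⟨v, d, hd, -, rfl⟩ := Groth.Agent.S18577.exists_coords g hg
      have hv : v ≠ 0 := fun h => hd.ne_zero (congrFun h d)
      refine ⟨Projectivization.mk F v hv, Subtype.ext ?_⟩
      obtain ⟨a, ha⟩ := Projectivization.exists_smul_eq_mk_rep F v hv
      exact (point_eq_iff (Projectivization.mk F v hv).rep v (c _) d (hc _) hd).2 ⟨a, ha⟩
  unfold SgaExt.pointCount
  rw [← Nat.card_congr (Equiv.ofBijective T hT), Projectivization.card_of_finrank F _ (Module.finrank_fin_fun F)]

variable [Finite k]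

theorem nPts_projSpace (n : ℕ) (m : ℕ) (hm : 1 ≤ m) :
    (Zeta.nPts (CohB1.ProjSpace.toSpec n k) m : ℤ) = ∑ i ∈ Finset.range (n + 1), ((Nat.card k : ℤ) ^ i) ^ m := by
  obtain ⟨k', _, _, hk', hfin⟩ := exists_ext (k := k) m (by omega)
  haveI : Module.Finite k k' := Module.Finite.of_finite
  haveI := Fintype.ofFinite k
  haveI := Fintype.ofFinite k'
  haveI : IsProper (CohB1.ProjSpace.toSpec n k) := inferInstance
  rw [← hfin, ← pointCount_eq_nPts, pointCount_projSpace, Nat.card_eq_fintype_card (α := k'),
    Nat.card_eq_fintype_card (α := k), Module.card_eq_pow_finrank (K := k) (V := k'), hfin]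
  push_cast
  exact Finset.sum_congr rfl fun i _ => by ring

end Groth.Agent.ZetaElem
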