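import Mathlib
import Groth.Prelude.Def_FinFr
import Groth.Agent.WeilCohLib.FixedPts
import Groth.Agent.ZetaElem.Decomp

/-!
The fixed point scheme of the geometric Frobenius is reduced, and finite for a scheme of finite type.
-/

set_option autoImplicit false
set_option linter.style.haveILetI false
set_option linter.unusedSectionVars false

universe u

noncomputable section

open AlgebraicGeometry CategoryTheory CategoryTheory.Limits WeilCoh Groth.Agent.WeilCohLib

namespace Groth.Agent.ZetaElem

variable {k : Type u} [Field k] [Finite k] {X : Scheme.{u}} (f : X ⟶ Spec (CommRingCat.of k)) [LocallyOfFiniteType f]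
  (FX : X ⟶ X) (hFb : FX.base = 𝟙 _) (hle : ∀ U : X.Opens, U ≤ FX ⁻¹ᵁ U)
  (hFapp : ∀ (U : X.Opens) (s : Γ(X, U)), (FX.appLE U U (hle U)).hom s = s ^ Nat.card k)
  (F : FinFr.ext (AlgebraicClosure k) f ⟶ FinFr.ext (AlgebraicClosure k) f)
  (hF1 : F ≫ FinFr.extπ (AlgebraicClosure k) f = FinFr.extπ (AlgebraicClosure k) f ≫ FX)
  (hF2 : F ≫ FinFr.extStr (AlgebraicClosure k) f = FinFr.extStr (AlgebraicClosure k) f)

include hFb hFapp hF1 in
theorem fixScheme_props :
    IsReduced (FinFr.fixScheme (FinFr.extStr (AlgebraicClosure k) f) F hF2) ∧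
      (QuasiCompact f → Finite ↥(FinFr.fixScheme (FinFr.extStr (AlgebraicClosure k) f) F hF2)) := by
  classical
  set K := AlgebraicClosure k
  let g := FinFr.extStr K f
  haveI : LocallyOfFiniteType g := inferInstanceAs (LocallyOfFiniteType (pullback.snd _ _))
  have hπ : IsPullback (FinFr.extπ K f) g f (Spec.map (CommRingCat.ofHom (algebraMap k K))) :=
    IsPullback.of_hasPullback _ _
  let Δ : FinFr.ext K f ⟶ pullback g g := pullback.lift (𝟙 _) (𝟙 _) rfl
  let Γ' : FinFr.ext K f ⟶ pullback g g := pullback.lift (𝟙 _) F (by rw [hF2, Category.id_comp])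
  let E := pullback Γ' Δ
  change IsReduced E ∧ (QuasiCompact f → Finite ↥E)
  let ι : E ⟶ FinFr.ext K f := pullback.fst Γ' Δ
  have hfix : ι ≫ F = ι := by
    have h1 := congrArg (fun φ => φ ≫ pullback.fst g g) (pullback.condition (f := Γ') (g := Δ))
    have h2 := congrArg (fun φ => φ ≫ pullback.snd g g) (pullback.condition (f := Γ') (g := Δ))
    simp only [Category.assoc, Γ', Δ, pullback.lift_fst, pullback.lift_snd, Category.comp_id] at h1 h2
    exact h2.trans h1.symm
  haveI : IsImmersion Δ := by
    have e : Δ = pullback.diagonal g := pullback.hom_ext (by rw [pullback.lift_fst]; exact (pullback.diagonal_fst g).symm) (by rw [pullback.lift_snd]; exact (pullback.diagonal_snd g).symm)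
    rw [e]; infer_instance
  haveI : IsImmersion ι := inferInstanceAs (IsImmersion (pullback.fst Γ' Δ))
  haveI : LocallyOfFiniteType (ι ≫ g) := inferInstance
  haveI : IsLocallyNoetherian E := LocallyOfFiniteType.isLocallyNoetherian (ι ≫ g)
  have hfixpt : ∀ e : E, F (ι e) = ι e := fun e => by rw [← Scheme.Hom.comp_apply, hfix]
  have hclosed : ∀ e : E, IsClosed ({e} : Set E) := by
    intro e
    rw [← isClosed_image_iff g ι e, isClosed_iff_pdim_eq_zero g]
    have h1 := residueDegree_congr hfix e
    have hι : ι.residueDegree e = 1 := residueDegree_eq_one_of_surjective ι e fun z => by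
      obtain ⟨s, rfl⟩ := IsLocalRing.residue_surjective z
      obtain ⟨t, ht⟩ := ι.stalkMap_surjective e s
      exact ⟨IsLocalRing.residue _ t,
        (congrArg (fun φ => φ t) (Scheme.residue_residueFieldMap ι e)).trans (congrArg (E.residue e) ht)⟩
    rw [residueDegree_comp', hι, mul_one,
      residueDegree_frob k K hπ FX hFb hle hFapp F hF2 hF1, Nat.pow_eq_one] at h1
    exact h1.resolve_left (Finite.one_lt_card (α := k)).ne'
  refine ⟨?_, fun hqc => ?_⟩
  · haveI : ∀ e : E, _root_.IsReduced (E.presheaf.stalk e) := by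
      intro e
      set x := ι e with hx
      have hxc : IsClosed ({x} : Set (FinFr.ext K f)) := (isClosed_image_iff g ι e).2 (hclosed e)
      set me := IsLocalRing.maximalIdeal (E.presheaf.stalk e)
      have hsub : me ≤ me • me := by
        intro a ha
        obtain ⟨b, rfl⟩ := ι.stalkMap_surjective e a
        have hb : b ∈ IsLocalRing.maximalIdeal ((FinFr.ext K f).presheaf.stalk x) := by
          by_contra hb
          exact ha ((IsLocalRing.notMem_maximalIdeal.1 hb).map (ι.stalkMap e).hom)
        have hsp : ∀ {u w : ↥(FinFr.ext K f)} (eq : u = w) (hs : u ⤳ w) (c : (FinFr.ext K f).presheaf.stalk w),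
            c ∈ IsLocalRing.maximalIdeal ((FinFr.ext K f).presheaf.stalk w) →
            (FinFr.ext K f).presheaf.stalkSpecializes hs c ∈ IsLocalRing.maximalIdeal ((FinFr.ext K f).presheaf.stalk u) := by
          intro u w eq hs c hc
          subst eq
          simpa [TopCat.Presheaf.stalkSpecializes_refl] using hc
        have h2 : st F (hfixpt e) b ∈ IsLocalRing.maximalIdeal ((FinFr.ext K f).presheaf.stalk x) ^ 2 :=
          stalkMap_frob_mem_sq k K hπ FX hFb hle hFapp F hF2 hF1 x hxc _ (hsp (hfixpt e) _ b hb)
        have h3 : ι.stalkMap e b = ι.stalkMap e (st F (hfixpt e) b) := by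
          have := congrArg (fun χ => χ b) ((st_comp ι F (rfl : ι e = x) (hfixpt e)
            (by rw [Scheme.Hom.comp_apply, hfixpt e])).trans (st_congr hfix _))
          simp only [st_rfl] at this
          exact this.symm
        rw [h3]
        have h4 := Ideal.mem_map_of_mem (ι.stalkMap e).hom h2
        rw [Ideal.map_pow] at h4
        have h5 : Ideal.map (ι.stalkMap e).hom (IsLocalRing.maximalIdeal ((FinFr.ext K f).presheaf.stalk x)) ≤ me :=
          ((IsLocalRing.local_hom_TFAE _).out 0 2).1 (inferInstance : IsLocalHom (ι.stalkMap e).hom)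
        rw [smul_eq_mul, ← pow_two]
        exact Ideal.pow_right_mono h5 2 h4
      have hbot : me = ⊥ := le_bot_iff.1 (Submodule.le_of_le_smul_of_le_jacobson_bot (IsNoetherian.noetherian me)
        (IsLocalRing.maximalIdeal_le_jacobson _) (by rw [bot_sup_eq]; exact hsub))
      have hF : IsField (E.presheaf.stalk e) := IsLocalRing.isField_iff_maximalIdeal_eq.2 hbot
      letI := hF.toField
      infer_instance
    exact isReduced_of_isReduced_stalk E
  · haveI : QuasiCompact f := hqc
    haveI : QuasiCompact g := inferInstanceAs (QuasiCompact (pullback.snd _ _))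
    haveI : CompactSpace ↥(FinFr.ext K f) := QuasiCompact.compactSpace_of_compactSpace g
    haveI : IsLocallyNoetherian (FinFr.ext K f) := LocallyOfFiniteType.isLocallyNoetherian g
    haveI : IsNoetherian (FinFr.ext K f) := ⟨⟩
    haveI : TopologicalSpace.NoetherianSpace ↥E := ι.isEmbedding.isInducing.noetherianSpace
    obtain ⟨S, hSf, hSc, hSi, hSu⟩ :=
      TopologicalSpace.NoetherianSpace.exists_finite_set_isClosed_irreducible (α := ↥E) isClosed_univ
    refine Set.finite_univ_iff.1 ?_
    rw [hSu]
    refine hSf.sUnion fun t ht => ?_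
    obtain ⟨w, hw⟩ := QuasiSober.sober (hSi t ht) (hSc t ht)
    rw [← hw.def, (hclosed w).closure_eq]
    exact Set.finite_singleton w

end Groth.Agent.ZetaElem
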